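import Mathlib.RingTheory.LocalRing.Module
import Mathlib.RingTheory.Flat.Equalizer
import Mathlib.RingTheory.Artinian.Ring
import Mathlib.RingTheory.Flat.Tensor

/-!
# Modules of any size over a local ring with nilpotent maximal ideal
-/

set_option autoImplicit false
universe u v

open TensorProduct IsLocalRing

namespace Groth.Agent.ArtFlat

variable {A : Type u} [CommRing A]

/-- Nakayama for a nilpotent ideal and a module of any size. -/
theorem eq_top_of_le_sup_smul {I : Ideal A} (hI : IsNilpotent I) {M : Type v} [AddCommGroup M] [Module A M]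
    (N : Submodule A M) (h : (⊤ : Submodule A M) ≤ N ⊔ I • ⊤) : N = ⊤ := by
  obtain ⟨n, hn⟩ := hI
  have key : ∀ j, (⊤ : Submodule A M) ≤ N ⊔ I ^ j • ⊤ := by
    intro j
    induction j with
    | zero => rw [pow_zero, Ideal.one_eq_top, Submodule.top_smul]; exact le_sup_right
    | succ j ih =>
      refine ih.trans (sup_le le_sup_left ?_)
      calc I ^ j • (⊤ : Submodule A M) ≤ I ^ j • (N ⊔ I • ⊤) := Submodule.smul_mono le_rfl h
        _ = I ^ j • N ⊔ I ^ (j + 1) • ⊤ := by rw [Submodule.smul_sup, pow_succ, ← smul_eq_mul, Submodule.smul_assoc]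
        _ ≤ N ⊔ I ^ (j + 1) • ⊤ := sup_le_sup_right Submodule.smul_le_right _
  refine top_le_iff.1 ((key n).trans ?_)
  rw [hn, Ideal.zero_eq_bot, Submodule.bot_smul, sup_bot_eq]

/-- Surjectivity is detected modulo a nilpotent ideal. -/
theorem surjective_of_baseChange {I : Ideal A} (hI : IsNilpotent I) {M N : Type v} [AddCommGroup M] [Module A M]
    [AddCommGroup N] [Module A N] (f : M →ₗ[A] N) (h : Function.Surjective (f.lTensor (A ⧸ I))) :
    Function.Surjective f := by
  rw [← LinearMap.range_eq_top]
  refine eq_top_of_le_sup_smul hI _ fun y _ => ?_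
  obtain ⟨z, hz⟩ := h ((1 : A ⧸ I) ⊗ₜ y)
  obtain ⟨m, rfl⟩ : ∃ m, (1 : A ⧸ I) ⊗ₜ[A] m = z := TensorProduct.mk_surjective A M _ Ideal.Quotient.mk_surjective z
  rw [LinearMap.lTensor_tmul] at hz
  have h0 : (TensorProduct.mk A (A ⧸ I) N 1) (y - f m) = 0 := by
    rw [map_sub, TensorProduct.mk_apply, TensorProduct.mk_apply, hz, sub_self]
  rw [← LinearMap.mem_ker, LinearMap.ker_tensorProductMk] at h0
  exact Submodule.mem_sup.2 ⟨f m, ⟨m, rfl⟩, y - f m, h0, add_sub_cancel (f m) y⟩

/-- A map onto a flat module, bijective modulo a nilpotent ideal, is bijective. -/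
theorem bijective_of_baseChange {I : Ideal A} (hI : IsNilpotent I) {M N : Type v} [AddCommGroup M] [Module A M]
    [AddCommGroup N] [Module A N] [Module.Flat A N] (f : M →ₗ[A] N)
    (h : Function.Bijective (f.lTensor (A ⧸ I))) : Function.Bijective f := by
  have hs := surjective_of_baseChange hI f h.2
  refine ⟨LinearMap.ker_eq_bot.1 ?_, hs⟩
  have hinj := LinearMap.lTensor_injective_of_exact_of_flat f hs (LinearMap.ker f).subtype
    (Submodule.injective_subtype _) (LinearMap.exact_subtype_ker_map f) (A ⧸ I)
  have hz : ∀ z, (LinearMap.ker f).subtype.lTensor (A ⧸ I) z = 0 := fun z => h.1 (by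
    rw [map_zero, ← LinearMap.comp_apply, ← LinearMap.lTensor_comp,
      show f ∘ₗ (LinearMap.ker f).subtype = 0 from LinearMap.ext fun x => x.2, LinearMap.lTensor_zero]
    rfl)
  have htop := eq_top_of_le_sup_smul hI (⊥ : Submodule A (LinearMap.ker f)) fun x _ => by
    refine Submodule.mem_sup_right ?_
    rw [← LinearMap.ker_tensorProductMk, LinearMap.mem_ker]
    exact hinj ((hz _).trans (map_zero _).symm)
  rw [eq_bot_iff]
  intro x hx
  exact congrArg Subtype.val ((Submodule.mem_bot A).1 (htop.ge (Submodule.mem_top (x := (⟨x, hx⟩ : LinearMap.ker f)))))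

variable [IsLocalRing A]

theorem isNilpotent_maximalIdeal [IsArtinianRing A] : IsNilpotent (maximalIdeal A) := by
  rw [← jacobson_eq_maximalIdeal (⊥ : Ideal A) bot_ne_top]
  exact IsArtinianRing.isNilpotent_jacobson_bot

/-- The cokernel of a map to a flat module which is injective on the closed fibre is free. -/
theorem free_coker (hm : IsNilpotent (maximalIdeal A)) {M N P : Type v} [AddCommGroup M] [Module A M]
    [AddCommGroup N] [Module A N] [AddCommGroup P] [Module A P] [Module.Flat A N] (f : M →ₗ[A] N) (g : N →ₗ[A] P)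
    (hg : Function.Surjective g) (hfg : Function.Exact f g)
    (h : Function.Injective (f.lTensor (ResidueField A))) : Module.Free A P := by
  classical
  let k := ResidueField A
  let b := Module.Free.chooseBasis k (k ⊗[A] M)
  let c := Module.Free.chooseBasis k (k ⊗[A] P)
  choose x hx using fun i => TensorProduct.mk_surjective A M k residue_surjective (b i)
  choose y hy using fun l => TensorProduct.mk_surjective A P k residue_surjective (c l)
  choose y' hy' using fun l => hg (y l)
  have hspanM : Submodule.span A (Set.range x) = ⊤ := eq_top_of_le_sup_smul hm _ fun m _ => by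
    obtain ⟨s, hs⟩ : ∃ s : _ →₀ k, Finsupp.linearCombination k b s = (1 : k) ⊗ₜ m := ⟨_, b.linearCombination_repr _⟩
    choose l hl using fun a : k => residue_surjective (R := A) a
    let m' : M := ∑ i ∈ s.support, l (s i) • x i
    have he : (TensorProduct.mk A k M 1) (m - m') = 0 := by
      rw [map_sub, map_sum, TensorProduct.mk_apply, ← hs, Finsupp.linearCombination_apply, Finsupp.sum, sub_eq_zero]
      refine Finset.sum_congr rfl fun i _ => ?_
      rw [map_smul, hx, ← algebraMap_smul k (l (s i)), show algebraMap A k (l (s i)) = s i from hl _]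
    rw [← LinearMap.mem_ker] at he
    replace he := (LinearMap.ker_tensorProductMk (Q := M) (I := maximalIdeal A)).le he
    exact Submodule.mem_sup.2 ⟨m', sum_mem fun i _ => Submodule.smul_mem _ _ (Submodule.subset_span ⟨i, rfl⟩),
      m - m', he, add_sub_cancel m' m⟩
  have hspanP : Submodule.span A (Set.range y) = ⊤ := eq_top_of_le_sup_smul hm _ fun m _ => by
    obtain ⟨s, hs⟩ : ∃ s : _ →₀ k, Finsupp.linearCombination k c s = (1 : k) ⊗ₜ m := ⟨_, c.linearCombination_repr _⟩
    choose l hl using fun a : k => residue_surjective (R := A) a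
    let m' : P := ∑ i ∈ s.support, l (s i) • y i
    have he : (TensorProduct.mk A k P 1) (m - m') = 0 := by
      rw [map_sub, map_sum, TensorProduct.mk_apply, ← hs, Finsupp.linearCombination_apply, Finsupp.sum, sub_eq_zero]
      refine Finset.sum_congr rfl fun i _ => ?_
      rw [map_smul, hy, ← algebraMap_smul k (l (s i)), show algebraMap A k (l (s i)) = s i from hl _]
    rw [← LinearMap.mem_ker] at he
    replace he := (LinearMap.ker_tensorProductMk (Q := P) (I := maximalIdeal A)).le he
    exact Submodule.mem_sup.2 ⟨m', sum_mem fun i _ => Submodule.smul_mem _ _ (Submodule.subset_span ⟨i, rfl⟩),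
      m - m', he, add_sub_cancel m' m⟩
  let w := Sum.elim (fun i => f (x i)) y'
  have hli : LinearIndependent A w := by
    refine Module.IsLocalRing.linearIndependent_of_flat w ?_
    let Φ := f.baseChange k
    let Ψ := g.baseChange k
    have hΨΦ : ∀ z, Ψ (Φ z) = 0 := fun z => by
      show g.lTensor k (f.lTensor k z) = 0
      rw [← LinearMap.comp_apply, ← LinearMap.lTensor_comp, hfg.linearMap_comp_eq_zero, LinearMap.lTensor_zero]
      rfl
    have h1 : TensorProduct.mk A k N 1 ∘ w = Sum.elim (Φ ∘ b) (fun l => (1 : k) ⊗ₜ y' l) := by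
      funext i
      cases i with
      | inl i => show (1 : k) ⊗ₜ f (x i) = Φ (b i); rw [← hx]; rfl
      | inr l => rfl
    rw [h1]
    refine LinearIndependent.sum_type ?_ ?_ ?_
    · exact b.linearIndependent.map' Φ (LinearMap.ker_eq_bot.2 h)
    · refine LinearIndependent.of_comp Ψ ?_
      have : Ψ ∘ (fun l => (1 : k) ⊗ₜ[A] y' l) = c := funext fun l => by
        show (1 : k) ⊗ₜ[A] g (y' l) = c l
        rw [hy']; exact hy l
      rw [this]; exact c.linearIndependent
    · rw [Submodule.disjoint_def]
      intro z hz1 hz2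
      rw [← Finsupp.range_linearCombination] at hz2
      obtain ⟨s, rfl⟩ := hz2
      have hzero : Ψ (Finsupp.linearCombination k (fun l => (1 : k) ⊗ₜ[A] y' l) s) = 0 := by
        obtain ⟨z, hz⟩ := Submodule.span_le.2 (show Set.range (Φ ∘ b) ⊆ LinearMap.range Φ by
          rintro _ ⟨i, rfl⟩; exact ⟨_, rfl⟩) hz1
        rw [← hz, hΨΦ]
      rw [Finsupp.apply_linearCombination] at hzero
      have : Ψ ∘ (fun l => (1 : k) ⊗ₜ[A] y' l) = c := funext fun l => by
        show (1 : k) ⊗ₜ[A] g (y' l) = c l
        rw [hy']; exact hy l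
      rw [this] at hzero
      rw [(linearIndependent_iff.1 c.linearIndependent) s hzero, map_zero]
  refine Module.Free.of_basis (Module.Basis.mk (v := y) ?_ hspanP.ge)
  rw [linearIndependent_iff]
  intro s hs
  have hg0 : g (Finsupp.linearCombination A y' s) = 0 := by
    rw [Finsupp.apply_linearCombination, show g ∘ y' = y from funext hy', hs]
  obtain ⟨m, hm'⟩ := (hfg _).1 hg0
  obtain ⟨a, rfl⟩ : ∃ a, Finsupp.linearCombination A x a = m := by
    rw [← LinearMap.mem_range, Finsupp.range_linearCombination, hspanM]; trivial
  have hcomb : Finsupp.linearCombination A w (Finsupp.sumFinsuppEquivProdFinsupp.symm (-a, s)) = 0 := by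
    rw [linearCombination_sum]
    simp only [w, Sum.elim_comp_inl, Sum.elim_comp_inr]
    rw [map_neg, ← hm', Finsupp.apply_linearCombination]
    simp [Function.comp_def]
  have := congrArg (fun t => (Finsupp.sumFinsuppEquivProdFinsupp t).2) ((linearIndependent_iff.1 hli) _ hcomb)
  simpa using this
where
  linearCombination_sum {ι κ : Type _} {M : Type _} [AddCommGroup M] [Module A M] {w : ι ⊕ κ → M}
      {a : ι →₀ A} {s : κ →₀ A} :
      Finsupp.linearCombination A w (Finsupp.sumFinsuppEquivProdFinsupp.symm (a, s)) =
        Finsupp.linearCombination A (w ∘ Sum.inl) a + Finsupp.linearCombination A (w ∘ Sum.inr) s := by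
    rw [Finsupp.linearCombination_apply, Finsupp.linearCombination_apply, Finsupp.linearCombination_apply,
      Finsupp.sumFinsuppEquivProdFinsupp_symm_apply, Finsupp.sum_sumElim]
    rfl

/-- Flat modules are free. -/
theorem free_of_flat (hm : IsNilpotent (maximalIdeal A)) (M : Type v) [AddCommGroup M] [Module A M]
    [Module.Flat A M] : Module.Free A M :=
  free_coker hm (0 : PUnit.{v+1} →ₗ[A] M) LinearMap.id Function.surjective_id
    (fun x => ⟨fun h => ⟨PUnit.unit, h.symm⟩, fun ⟨_, hy⟩ => hy.symm⟩)
    (fun a b _ => by
      have : Subsingleton (ResidueField A ⊗[A] PUnit.{v+1}) := ⟨fun a b => by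
        have key : ∀ z : ResidueField A ⊗[A] PUnit.{v+1}, z = 0 := fun z => by
          induction z using TensorProduct.induction_on with
          | zero => rfl
          | tmul c d => rw [Subsingleton.elim d 0, TensorProduct.tmul_zero]
          | add x y hx hy => rw [hx, hy, add_zero]
        rw [key a, key b]⟩
      exact Subsingleton.elim a b)

/-- The kernel of a surjection of flat modules is flat, and stays injective after tensoring. -/
theorem flat_ker {M N P : Type v} [AddCommGroup M] [Module A M] [AddCommGroup N] [Module A N]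
    [AddCommGroup P] [Module A P] [Module.Flat A N] [Module.Flat A P] (f : M →ₗ[A] N) (g : N →ₗ[A] P)
    (hf : Function.Injective f) (hg : Function.Surjective g) (hfg : Function.Exact f g) : Module.Flat A M := by
  rw [Module.Flat.iff_rTensor_injective']
  intro I
  have h1 := LinearMap.lTensor_injective_of_exact_of_flat g hg f hf hfg I
  have h2 := Module.Flat.rTensor_preserves_injective_linearMap (M := N) (I.subtype) (Submodule.injective_subtype I)
  refine Function.Injective.of_comp (f := f.lTensor A) ?_
  have he : f.lTensor A ∘ₗ I.subtype.rTensor M = I.subtype.rTensor N ∘ₗ f.lTensor I := by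
    rw [LinearMap.lTensor_comp_rTensor, LinearMap.rTensor_comp_lTensor]
  rw [← LinearMap.coe_comp, he, LinearMap.coe_comp]
  exact h2.comp h1

/-- A map of flat modules injective on the closed fibre is injective with flat cokernel. -/
theorem injective_of_residue (hm : IsNilpotent (maximalIdeal A)) {M N : Type v} [AddCommGroup M] [Module A M]
    [AddCommGroup N] [Module A N] [Module.Flat A M] [Module.Flat A N] (f : M →ₗ[A] N)
    (h : Function.Injective (f.lTensor (ResidueField A))) : Function.Injective f := by
  let π := (LinearMap.range f).mkQ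
  have hπ : Function.Surjective π := Submodule.mkQ_surjective _
  have hflat : Module.Flat A (N ⧸ LinearMap.range f) := by
    have := free_coker hm f π hπ (LinearMap.exact_map_mkQ_range f) h
    infer_instance
  have : Module.Flat A (LinearMap.range f) :=
    flat_ker (LinearMap.range f).subtype π (Submodule.injective_subtype _) hπ
      (LinearMap.exact_subtype_mkQ _)
  have hb := bijective_of_baseChange hm f.rangeRestrict ⟨?_, LinearMap.lTensor_surjective _ f.surjective_rangeRestrict⟩
  · exact fun a b e => hb.1 (Subtype.ext e)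
  · refine Function.Injective.of_comp (f := (LinearMap.range f).subtype.lTensor (A ⧸ maximalIdeal A)) ?_
    rw [← LinearMap.coe_comp, ← LinearMap.lTensor_comp]
    exact h

end Groth.Agent.ArtFlat
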